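import Mathlib.Algebra.CharP.Lemmas
import Mathlib.Algebra.CharP.Algebra
import Mathlib.FieldTheory.IsAlgClosed.Basic
import Mathlib.RingTheory.Filtration
import Mathlib.RingTheory.HopfAlgebra.Quotient
import Mathlib.RingTheory.HopfAlgebra.Convolution
import Mathlib.RingTheory.Jacobson.Ring
import Mathlib.RingTheory.Bialgebra.Convolution
import Mathlib.RingTheory.TensorProduct.Maps
import Mathlib.RingTheory.Finiteness.Cardinality
import Mathlib.RingTheory.FiniteType

/-!
# Frobenius ideals of a Hopf algebra and their intersection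
-/

set_option autoImplicit false

universe u

open TensorProduct WithConv

namespace Groth.Agent.PointFrob

variable {k : Type u} [Field k] {B : Type u} [CommRing B] [HopfAlgebra k B]

/-- The ideal generated by the `q`-th powers of the augmentation ideal. -/
noncomputable def frobIdeal (q : ℕ) : Ideal B :=
  Ideal.span ((fun x => x ^ q) '' (RingHom.ker (Bialgebra.counitAlgHom k B) : Set B))

theorem frobIdeal_le_pow (q : ℕ) : frobIdeal (k := k) q ≤ RingHom.ker (Bialgebra.counitAlgHom k B) ^ q :=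
  Ideal.span_le.2 (by rintro _ ⟨x, hx, rfl⟩; exact Ideal.pow_mem_pow hx q)

theorem pow_sub_mem (a : B) (q : ℕ) :
    (a - algebraMap k B (Bialgebra.counitAlgHom k B a)) ^ q ∈ frobIdeal (k := k) q :=
  Ideal.subset_span ⟨_, by
    show Bialgebra.counitAlgHom k B _ = 0
    rw [map_sub, AlgHom.commutes, Algebra.algebraMap_self, RingHom.id_apply, sub_self], rfl⟩

theorem frobIdeal_ne_top {q : ℕ} (hq : 0 < q) : frobIdeal (k := k) (B := B) q ≠ ⊤ :=
  ne_top_of_le_ne_top (RingHom.ker_ne_top _) ((frobIdeal_le_pow q).trans (Ideal.pow_le_self hq.ne'))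

variable (p : ℕ) [Fact p.Prime] [CharP k p] (n : ℕ)

theorem mk_pow_eq (a : B) :
    Ideal.Quotient.mk (frobIdeal (k := k) (p ^ n)) a ^ p ^ n =
      algebraMap k (B ⧸ frobIdeal (k := k) (p ^ n)) (Bialgebra.counitAlgHom k B a ^ p ^ n) := by
  haveI : Nontrivial (B ⧸ frobIdeal (k := k) (p ^ n)) :=
    Ideal.Quotient.nontrivial_iff.2 (frobIdeal_ne_top (pow_pos (Fact.out : p.Prime).pos n))
  haveI : CharP (B ⧸ frobIdeal (k := k) (p ^ n)) p :=
    charP_of_injective_algebraMap (algebraMap k _).injective p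
  have h := Ideal.Quotient.eq_zero_iff_mem.2 (pow_sub_mem (k := k) a (p ^ n))
  rw [map_pow, map_sub, sub_pow_char_pow, sub_eq_zero] at h
  rw [h, map_pow]
  rfl

theorem isHopfIdeal_frobIdeal : (frobIdeal (k := k) (B := B) (p ^ n)).IsHopfIdeal k := by
  have hpos : 0 < p ^ n := pow_pos (Fact.out : p.Prime).pos n
  let J := frobIdeal (k := k) (B := B) (p ^ n)
  haveI : Nontrivial (B ⧸ J) := Ideal.Quotient.nontrivial_iff.2 (frobIdeal_ne_top hpos)
  let T := (B ⧸ J) ⊗[k] (B ⧸ J)
  haveI : Nontrivial T := by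
    let ε : (B ⧸ J) →ₐ[k] k := Ideal.Quotient.liftₐ J (Bialgebra.counitAlgHom k B) fun a ha =>
      ((frobIdeal_le_pow (p ^ n)).trans (Ideal.pow_le_self hpos.ne')) ha
    exact RingHom.domain_nontrivial (Algebra.TensorProduct.lift ε ε fun _ _ => Commute.all _ _).toRingHom
  haveI : CharP T p := charP_of_injective_algebraMap (algebraMap k T).injective p
  let π : B ⊗[k] B →ₐ[k] T := Algebra.TensorProduct.map (Ideal.Quotient.mkₐ k J) (Ideal.Quotient.mkₐ k J)
  let εε : B ⊗[k] B →ₐ[k] k :=
    Algebra.TensorProduct.lift (Bialgebra.counitAlgHom k B) (Bialgebra.counitAlgHom k B) fun _ _ => Commute.all _ _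
  have hπ : ∀ z, π z ^ p ^ n = algebraMap k T (εε z ^ p ^ n) := fun z => by
    induction z using TensorProduct.induction_on with
    | zero => simp [zero_pow hpos.ne']
    | tmul a b =>
      show (Ideal.Quotient.mk J a ⊗ₜ[k] Ideal.Quotient.mk J b : T) ^ p ^ n =
        algebraMap k T ((Bialgebra.counitAlgHom k B a * Bialgebra.counitAlgHom k B b) ^ p ^ n)
      rw [Algebra.TensorProduct.tmul_pow, mk_pow_eq p n a, mk_pow_eq p n b,
        Algebra.algebraMap_eq_smul_one, Algebra.algebraMap_eq_smul_one, TensorProduct.smul_tmul_smul, mul_pow,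
        Algebra.algebraMap_eq_smul_one]
      rfl
    | add a b ha hb => rw [map_add, map_add, add_pow_char_pow, add_pow_char_pow, ha, hb, map_add]
  have hεc : ∀ x, εε (Coalgebra.comul (R := k) x) = Bialgebra.counitAlgHom k B x := fun x => by
    have h : ((1 : WithConv (B →ₐ[k] k)) * 1) = 1 := one_mul _
    have e := AlgHom.congr_fun (congrArg WithConv.ofConv h) x
    rw [AlgHom.convOne_def] at e
    rw [AlgHom.convMul_def] at e
    have hεε : εε = (Algebra.TensorProduct.lmul' k).comp
        (Algebra.TensorProduct.map (Bialgebra.counitAlgHom k B) (Bialgebra.counitAlgHom k B)) :=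
      Algebra.TensorProduct.ext' fun a b => by simp [εε]
    rw [hεε]
    simpa [AlgHom.comp_apply, Algebra.ofId_apply, Bialgebra.comulAlgHom_apply] using e
  have hker : ∀ x ∈ J, (π.comp (Bialgebra.comulAlgHom k B)) x = 0 := by
    intro x hx
    refine (Ideal.span_le.2 ?_ : J ≤ RingHom.ker (π.comp (Bialgebra.comulAlgHom k B))) hx
    rintro _ ⟨y, hy, rfl⟩
    show (π.comp (Bialgebra.comulAlgHom k B)) (y ^ p ^ n) = 0
    rw [map_pow, AlgHom.comp_apply, hπ, Bialgebra.comulAlgHom_apply, hεc,
      show Bialgebra.counitAlgHom k B y = 0 from hy, zero_pow hpos.ne', map_zero]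
  haveI hc : (J.restrictScalars k).IsCoideal :=
    { counit_eq_zero := fun x hx => ((frobIdeal_le_pow (p ^ n)).trans (Ideal.pow_le_self hpos.ne')) hx
      map_mkQ_comul_eq_zero := fun x hx => hker x hx }
  refine { toIsCoideal := hc, antipode_mem := fun x hx => ?_ }
  show x ∈ J.comap (HopfAlgebra.antipodeAlgHom k B)
  refine Ideal.span_le.2 ?_ hx
  rintro _ ⟨y, hy, rfl⟩
  show HopfAlgebra.antipodeAlgHom k B (y ^ p ^ n) ∈ J
  rw [map_pow]
  refine Ideal.subset_span ⟨_, ?_, rfl⟩
  show Bialgebra.counitAlgHom k B (HopfAlgebra.antipode k y) = 0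
  exact (HopfAlgebra.counit_antipode y).trans hy

theorem finite_quotient_frobIdeal [Algebra.FiniteType k B] : Module.Finite k (B ⧸ frobIdeal (k := k) (p ^ n)) := by
  haveI : Algebra.IsIntegral k (B ⧸ frobIdeal (k := k) (p ^ n)) := ⟨fun z => by
    obtain ⟨a, rfl⟩ := Ideal.Quotient.mk_surjective z
    refine IsIntegral.of_pow (pow_pos (Fact.out : p.Prime).pos n) ?_
    rw [mk_pow_eq p n a]
    exact isIntegral_algebraMap⟩
  exact Algebra.IsIntegral.finite

end Groth.Agent.PointFrob
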