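import Groth.Agent.PointFrob.Ideal
import Mathlib.RingTheory.Flat.Basic
import Mathlib.RingTheory.Localization.Submodule
import Mathlib.RingTheory.Localization.AtPrime.Basic
import Mathlib.RingTheory.TensorProduct.Finite
import Mathlib.RingTheory.FiniteStability

/-!
# An ideal in all infinitesimal neighbourhoods, stable under translations, is zero
-/

set_option autoImplicit false

universe u

open TensorProduct WithConv

namespace Groth.Agent.PointFrob

variable {k : Type u} [Field k] {B A : Type u} [CommRing B] [CommRing A] [HopfAlgebra k B] [HopfAlgebra k A]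
  [Algebra.FiniteType k B] (K : Type u) [Field K] [Algebra k K] [IsAlgClosed K]

theorem eq_zero_of_mem_iInf_pow {R : Type u} [CommRing R] [IsNoetherianRing R] (b : R)
    (h : ∀ (m : Ideal R), m.IsMaximal → ∀ q : ℕ, b ∈ m ^ q) : b = 0 := by
  by_contra hb
  obtain ⟨m, hm, hann⟩ := Ideal.exists_le_maximal (Submodule.annihilator (R ∙ b))
    (fun e => hb (by
      have h1 : (1 : R) ∈ Submodule.annihilator (R ∙ b) := e ▸ trivial
      simpa using Submodule.mem_annihilator.1 h1 b (Submodule.mem_span_singleton_self b)))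
  haveI := hm
  have h0 : algebraMap R (Localization.AtPrime m) b = 0 := by
    rw [← Ideal.mem_bot, ← Ideal.iInf_pow_eq_bot_of_isLocalRing (IsLocalRing.maximalIdeal (Localization.AtPrime m))
      (IsLocalRing.maximalIdeal.isMaximal _).ne_top, Ideal.mem_iInf]
    intro q
    rw [← Localization.AtPrime.map_eq_maximalIdeal, ← Ideal.map_pow]
    exact Ideal.mem_map_of_mem _ (h m hm q)
  obtain ⟨s, hs⟩ := (IsLocalization.map_eq_zero_iff m.primeCompl _ b).1 h0
  exact s.2 (hann (Submodule.mem_annihilator_span_singleton _ _ |>.2 (by simpa using hs)))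

/-- The kernel of a bialgebra map which hits every geometric point, when contained in all the powers
of the augmentation ideal, is trivial. -/
theorem ker_eq_bot (φ : B →ₐc[k] A)
    (hpts : ∀ y : B →ₐ[k] K, ∃ y' : A →ₐ[k] K, y'.comp (φ : B →ₐ[k] A) = y)
    (hinf : ∀ q : ℕ, RingHom.ker (φ : B →ₐ[k] A) ≤ RingHom.ker (Bialgebra.counitAlgHom k B) ^ q) :
    RingHom.ker (φ : B →ₐ[k] A) = ⊥ := by
  refine (Submodule.eq_bot_iff _).2 fun b hb => ?_
  let BK := K ⊗[k] B
  haveI : Algebra.FiniteType K BK := inferInstanceAs (Algebra.FiniteType K (K ⊗[k] B))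
  haveI : IsNoetherianRing BK := Algebra.FiniteType.isNoetherianRing K BK
  let r : B →ₐ[k] BK := Algebra.TensorProduct.includeRight
  let l : K →ₐ[k] BK := Algebra.TensorProduct.includeLeft
  suffices h : r b = 0 by
    refine Algebra.TensorProduct.includeRight_injective (algebraMap k K).injective ?_
    rw [map_zero]
    exact h
  refine eq_zero_of_mem_iInf_pow _ fun m hm q => ?_
  -- the maximal ideal is a geometric point
  let := Ideal.Quotient.field m
  haveI : Module.Finite K (BK ⧸ m) := finite_of_finite_type_of_isJacobsonRing _ _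
  let e : K ≃ₐ[K] (BK ⧸ m) := AlgEquiv.ofBijective (Algebra.ofId K _) IsAlgClosed.algebraMap_bijective_of_isIntegral
  let ev : BK →ₐ[K] K := e.symm.toAlgHom.comp (Ideal.Quotient.mkₐ K m)
  have hm' : m = RingHom.ker ev := by
    ext x
    show x ∈ m ↔ e.symm (Ideal.Quotient.mk m x) = 0
    rw [map_eq_zero_iff _ e.symm.injective, Ideal.Quotient.eq_zero_iff_mem]
  let y : B →ₐ[k] K := (ev.restrictScalars k).comp r
  let z : WithConv (B →ₐ[k] K) := toConv (y.comp (HopfAlgebra.antipodeAlgHom k B))
  have hyz : toConv y * z = 1 ∧ z * toConv y = 1 := by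
    have h1 : toConv (AlgHom.id k B) * toConv (HopfAlgebra.antipodeAlgHom k B) = 1 := by
      have h := mul_inv_cancel (toConv (AlgHom.id k B))
      exact h
    have h2 := AlgHom.antipode_id_cancel (R := k) (A := B)
    have h1' := congrArg (fun w => toConv (y.comp w.ofConv)) h1
    have h2' := congrArg (fun w => toConv (y.comp w.ofConv)) h2
    simp only [AlgHom.comp_convMul_distrib, toConv_ofConv, ofConv_toConv, AlgHom.comp_id] at h1' h2'
    have e : toConv (y.comp (1 : WithConv (B →ₐ[k] B)).ofConv) = 1 := by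
      refine WithConv.ofConv_injective (AlgHom.ext fun c => ?_)
      simp [AlgHom.convOne_def, Algebra.ofId_apply]
    exact ⟨h1'.trans e, h2'.trans e⟩
  let τ : (B →ₐ[k] K) → (B →ₐ[k] BK) := fun w => (toConv (l.comp w) * toConv r).ofConv
  obtain ⟨y', hy'⟩ := hpts y
  -- translations by points of the subgroup preserve the kernel
  have hτb : τ y b ∈ (RingHom.ker (Bialgebra.counitAlgHom k B)).map r ^ q := by
    have h1 : Algebra.TensorProduct.map (AlgHom.id k K) (φ : B →ₐ[k] A) (τ y b) = 0 := by
      have e1 : (Algebra.TensorProduct.map (AlgHom.id k K) (φ : B →ₐ[k] A)).comp (τ y) =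
          WithConv.ofConv (toConv (((Algebra.TensorProduct.includeLeft : K →ₐ[k] K ⊗[k] A).comp y').comp (φ : B →ₐ[k] A)) *
            toConv ((Algebra.TensorProduct.includeRight : A →ₐ[k] K ⊗[k] A).comp (φ : B →ₐ[k] A))) := by
        rw [AlgHom.comp_convMul_distrib]
        congr 2
        · refine congrArg toConv (AlgHom.ext fun c => ?_)
          simp [l, ← hy']
          exact (Algebra.TensorProduct.map_tmul _ _ _ _).trans (by simp)
      have e2 : WithConv.ofConv (toConv (((Algebra.TensorProduct.includeLeft : K →ₐ[k] K ⊗[k] A).comp y').comp (φ : B →ₐ[k] A)) *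
            toConv ((Algebra.TensorProduct.includeRight : A →ₐ[k] K ⊗[k] A).comp (φ : B →ₐ[k] A))) =
          (WithConv.ofConv (toConv ((Algebra.TensorProduct.includeLeft : K →ₐ[k] K ⊗[k] A).comp y') *
            toConv (Algebra.TensorProduct.includeRight : A →ₐ[k] K ⊗[k] A))).comp (φ : B →ₐ[k] A) :=
        (AlgHom.convMul_comp_bialgHom_distrib _ _ φ).symm
      have := AlgHom.congr_fun (e1.trans e2) b
      rw [AlgHom.comp_apply, AlgHom.comp_apply, show (φ : B →ₐ[k] A) b = 0 from hb, map_zero] at this
      exact this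
    have h2 : τ y b ∈ LinearMap.range ((RingHom.ker (φ : B →ₐ[k] A)).restrictScalars k |>.subtype.lTensor K) := by
      have hex : Function.Exact ((RingHom.ker (φ : B →ₐ[k] A)).restrictScalars k).subtype
          (φ : B →ₐ[k] A).toLinearMap := fun x =>
        ⟨fun hx => ⟨⟨x, hx⟩, rfl⟩, by rintro ⟨w, rfl⟩; exact w.2⟩
      refine ((Module.Flat.lTensor_exact K hex) _).1 ?_
      have e : ∀ v : BK, LinearMap.lTensor K (φ : B →ₐ[k] A).toLinearMap v =
          Algebra.TensorProduct.map (AlgHom.id k K) (φ : B →ₐ[k] A) v := fun v => by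
        induction v using TensorProduct.induction_on with
        | zero => simp
        | tmul c x => rfl
        | add v w hv hw => rw [map_add, map_add, hv, hw]
      exact (e _).trans h1
    obtain ⟨w, hw⟩ := h2
    rw [← hw, ← Ideal.map_pow]
    clear hw
    induction w using TensorProduct.induction_on with
    | zero => simp
    | tmul c x =>
      rw [LinearMap.lTensor_tmul]
      have : (c ⊗ₜ[k] (x : B) : BK) = (c ⊗ₜ[k] (1 : B)) * r x := by simp [r, BK]
      exact this ▸ Ideal.mul_mem_left _ _ (Ideal.mem_map_of_mem _ (hinf q x.2))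
    | add v w hv hw => rw [map_add]; exact add_mem hv hw
  -- translate back
  let Tz : BK →ₐ[K] BK := Algebra.TensorProduct.lift (Algebra.ofId K BK) (τ z.ofConv) fun _ _ => Commute.all _ _
  have hTl : (Tz.restrictScalars k).comp l = l := AlgHom.ext fun c => by
    simp [Tz, l, BK, Algebra.ofId_apply]
  have hTr : (Tz.restrictScalars k).comp r = τ z.ofConv := AlgHom.ext fun c => by simp [Tz, r, BK]
  have hcompl : toConv (l.comp y) * toConv (l.comp z.ofConv) = 1 := by
    have h := congrArg (fun w : WithConv (B →ₐ[k] K) => toConv (l.comp w.ofConv)) hyz.1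
    simp only [AlgHom.comp_convMul_distrib, toConv_ofConv, ofConv_toConv] at h
    refine h.trans ?_
    exact congrArg toConv (AlgHom.ext fun c => by simp [AlgHom.convOne_def, Algebra.ofId_apply])
  have hTτ : (Tz.restrictScalars k).comp (τ y) = r := by
    rw [AlgHom.comp_convMul_distrib]
    show WithConv.ofConv (toConv ((Tz.restrictScalars k).comp (l.comp y)) * toConv ((Tz.restrictScalars k).comp r)) = r
    rw [← AlgHom.comp_assoc, hTl, hTr, toConv_ofConv, ← mul_assoc, hcompl, one_mul]
  have hev : (ev.restrictScalars k).comp (τ z.ofConv) = (Algebra.ofId k K).comp (Bialgebra.counitAlgHom k B) := by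
    rw [AlgHom.comp_convMul_distrib]
    have hl : (ev.restrictScalars k).comp l = AlgHom.id k K := AlgHom.ext fun c => ev.commutes c
    show WithConv.ofConv (toConv (((ev.restrictScalars k)).comp (l.comp z.ofConv)) * toConv y) = _
    rw [← AlgHom.comp_assoc, hl, AlgHom.id_comp, toConv_ofConv, hyz.2]
    rw [AlgHom.convOne_def]
  have hle : ((RingHom.ker (Bialgebra.counitAlgHom k B)).map r).map Tz ≤ m := by
    rw [Ideal.map_le_iff_le_comap, Ideal.map_le_iff_le_comap]
    intro c hc
    rw [Ideal.mem_comap, Ideal.mem_comap, hm', RingHom.mem_ker]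
    have h1 := AlgHom.congr_fun hev c
    have h2 := AlgHom.congr_fun hTr c
    simp only [AlgHom.comp_apply, AlgHom.restrictScalars_apply] at h1 h2
    rw [h2, h1, show Bialgebra.counitAlgHom k B c = 0 from hc, map_zero]
  have hfin : Tz (τ y b) ∈ m ^ q := by
    have h := Ideal.mem_map_of_mem Tz hτb
    rw [Ideal.map_pow] at h
    exact Ideal.pow_right_mono hle q h
  have := AlgHom.congr_fun hTτ b
  simp only [AlgHom.comp_apply, AlgHom.restrictScalars_apply] at this
  rwa [this] at hfin

end Groth.Agent.PointFrob
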