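import Groth.Agent.PointFrob.Inter
import Groth.Agent.GrpSchLib.AffineHopfClosed
import Groth.Agent.GrpSchLib.KernelGrp
import Groth.Agent.GrpSchLib.Cartier
import Groth.Agent.GrpSchLib.SmoothReduced
import Groth.Agent.S3036
import Mathlib.AlgebraicGeometry.Morphisms.Finite
import Mathlib.RingTheory.Jacobson.Ring
import Mathlib.RingTheory.IntegralClosure.IsIntegralClosure.Basic

/-!
# Homomorphisms of affine groups bijective on finite subgroups and on geometric points
-/

set_option autoImplicit false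

universe u

open CategoryTheory CategoryTheory.Limits MonoidalCategory CartesianMonoidalCategory AlgebraicGeometry
open Groth.Agent.GrpSchLib.AffineHopf (sp spMap)
open scoped MonObj IsMulCommutative

namespace Groth.Agent.PointFrob

variable {k : Type u} [Field k]

theorem finiteType_of_lft {B : Type u} [CommRing B] [Algebra k B] (h : LocallyOfFiniteType (sp k B).hom) :
    Algebra.FiniteType k B :=
  RingHom.finiteType_algebraMap.1
    ((HasRingHomProperty.Spec_iff (P := @LocallyOfFiniteType) (φ := CommRingCat.ofHom (algebraMap k B))).1 h)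

theorem lft_of_finiteType (B : Type u) [CommRing B] [Algebra k B] [Algebra.FiniteType k B] :
    LocallyOfFiniteType (sp k B).hom :=
  (HasRingHomProperty.Spec_iff (P := @LocallyOfFiniteType) (φ := CommRingCat.ofHom (algebraMap k B))).2
    (RingHom.finiteType_algebraMap.2 ‹_›)

theorem isFinite_sp (B : Type u) [CommRing B] [Algebra k B] [Module.Finite k B] : IsFinite (sp k B).hom :=
  (IsFinite.SpecMap_iff (f := CommRingCat.ofHom (algebraMap k B))).2 (RingHom.finite_algebraMap.2 ‹_›)

/-- A point with values in an algebraically closed field detects each maximal ideal. -/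
theorem exists_point {B : Type u} [CommRing B] [Algebra k B] [Algebra.FiniteType k B]
    (K : Type u) [Field K] [Algebra k K] [IsAlgClosed K] (m : Ideal B) [m.IsMaximal] :
    ∃ y : B →ₐ[k] K, RingHom.ker y = m := by
  let := Ideal.Quotient.field m
  have : Module.Finite k (B ⧸ m) := finite_of_finite_type_of_isJacobsonRing _ _
  refine ⟨(IsAlgClosed.lift : (B ⧸ m) →ₐ[k] K).comp (Ideal.Quotient.mkₐ k m), ?_⟩
  ext x
  show (IsAlgClosed.lift : (B ⧸ m) →ₐ[k] K) (Ideal.Quotient.mk m x) = 0 ↔ x ∈ m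
  rw [map_eq_zero, Ideal.Quotient.eq_zero_iff_mem]

theorem isNilpotent_of_forall_point {B : Type u} [CommRing B] [Algebra k B] [Algebra.FiniteType k B]
    (K : Type u) [Field K] [Algebra k K] [IsAlgClosed K] (b : B) (h : ∀ y : B →ₐ[k] K, y b = 0) :
    IsNilpotent b := by
  haveI : IsJacobsonRing B := isJacobsonRing_of_finiteType (A := k)
  rw [← mem_nilradical]
  show b ∈ Ideal.radical ⊥
  rw [Ideal.radical_eq_jacobson]
  refine Submodule.mem_sInf.2 fun m hm => ?_
  haveI := hm.2
  obtain ⟨y, hy⟩ := exists_point (k := k) K m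
  exact hy ▸ h y

/-- A finitely generated algebra with at most one geometric point is finite. -/
theorem finite_of_subsingleton_points {C : Type u} [CommRing C] [Algebra k C] [Algebra.FiniteType k C]
    (K : Type u) [Field K] [Algebra k K] [IsAlgClosure k K] (h : ∀ y y' : C →ₐ[k] K, y = y') :
    Module.Finite k C := by
  haveI : IsAlgClosed K := IsAlgClosure.isAlgClosed k
  haveI : Algebra.IsAlgebraic k K := IsAlgClosure.isAlgebraic
  haveI : Algebra.IsIntegral k C := ⟨fun c => by
    by_cases hne : Nonempty (C →ₐ[k] K)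
    · obtain ⟨y₀⟩ := hne
      have hint : IsIntegral k (y₀ c) := (Algebra.IsAlgebraic.isAlgebraic (y₀ c)).isIntegral
      obtain ⟨P, hP, hPy⟩ := hint
      obtain ⟨N, hN⟩ := isNilpotent_of_forall_point (k := k) K (Polynomial.aeval c P) fun y => by
        rw [h y y₀, ← Polynomial.aeval_algHom_apply]
        exact hPy
      refine ⟨P ^ N, hP.pow N, ?_⟩
      rw [← Polynomial.aeval_def, map_pow, hN]
    · have : IsNilpotent (1 : C) := isNilpotent_of_forall_point (k := k) K 1 fun y => absurd ⟨y⟩ hne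
      obtain ⟨N, hN⟩ := this
      rw [one_pow] at hN
      exact ⟨1, Polynomial.monic_one, by rw [Polynomial.eval₂_one, hN]⟩⟩
  exact Algebra.IsIntegral.finite

theorem isCommMonObj_of_mono {C : Type*} [Category C] [CartesianMonoidalCategory C] [BraidedCategory C]
    {N G : C} [MonObj N] [MonObj G] [IsCommMonObj G] (i : N ⟶ G) [IsMonHom i] [Mono i] : IsCommMonObj N :=
  (isCommMonObj_iff_isMulCommutative N).2 fun X => ⟨⟨fun a b => by
    rw [← cancel_mono i, MonObj.mul_comp, MonObj.mul_comp]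
    exact ((isCommMonObj_iff_isMulCommutative G).1 inferInstance X).is_comm.comm _ _⟩⟩

/-- The affine form of the criterion. -/
theorem bijective_of_finite_of_points {A B : Type u} [CommRing A] [CommRing B] [HopfAlgebra k A] [HopfAlgebra k B]
    [Algebra.FiniteType k A] [Algebra.FiniteType k B] [IsCommMonObj (sp k A)] [IsCommMonObj (sp k B)]
    (K : Type u) [Field K] [Algebra k K] [IsAlgClosure k K] (φ : B →ₐc[k] A)
    (hinj : ∀ (I : Over (Spec (CommRingCat.of k))) [GrpObj I] [IsCommMonObj I] [IsFinite I.hom]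
      (f g : I ⟶ sp k A) [IsMonHom f] [IsMonHom g],
        f ≫ spMap (φ : B →ₐ[k] A) = g ≫ spMap (φ : B →ₐ[k] A) → f = g)
    (hsurj : ∀ (I : Over (Spec (CommRingCat.of k))) [GrpObj I] [IsCommMonObj I] [IsFinite I.hom]
      (h : I ⟶ sp k B) [IsMonHom h], ∃ f : I ⟶ sp k A, IsMonHom f ∧ f ≫ spMap (φ : B →ₐ[k] A) = h)
    (hpts : Function.Bijective fun y : A →ₐ[k] K => y.comp (φ : B →ₐ[k] A)) :
    Function.Bijective φ := by
  haveI : IsAlgClosed K := IsAlgClosure.isAlgClosed k
  haveI := lft_of_finiteType (k := k) A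
  haveI := lft_of_finiteType (k := k) B
  haveI : IsSeparated (sp k B).hom := inferInstanceAs (IsSeparated (Spec.map _))
  obtain ⟨N, _, i, hi, hicl, -, hker⟩ := GrpSchLib.exists_kernel (spMap (φ : B →ₐ[k] A))
  haveI := hi
  haveI := hicl
  haveI : Mono i := ⟨fun a b hab => hker.hom_ext hab (toUnit_unique _ _)⟩
  haveI : IsAffine (sp k A).left := inferInstanceAs (IsAffine (Spec _))
  haveI : IsAffine N.left := isAffine_of_isAffineHom i.left
  obtain ⟨C, _, _, ⟨eC⟩⟩ := GrpSchLib.AffineHopf.exists_hopf N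
  haveI : IsMonHom eC.hom.hom.hom := eC.hom.hom.isMonHom_hom
  let j : sp k C ⟶ sp k A := eC.hom.hom.hom ≫ i
  haveI : IsIso eC.hom.hom.hom := (Grp.forget _).map_isIso eC.hom
  haveI : IsMonHom j := inferInstanceAs (IsMonHom (_ ≫ i))
  haveI : Mono j := mono_comp _ _
  haveI : IsCommMonObj (sp k C) := isCommMonObj_of_mono j
  obtain ⟨gC, hgC⟩ := GrpSchLib.AffineHopf.exists_bialgHom j
  haveI : Algebra.FiniteType k C := finiteType_of_lft (by
    haveI : LocallyOfFiniteType N.hom := by rw [← Over.w i]; infer_instance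
    haveI : IsIso eC.hom.hom.hom.left := (Over.forget _).map_isIso eC.hom.hom.hom
    rw [← Over.w eC.hom.hom.hom]; infer_instance)
  have hone : (GrpSchLib.AffineHopf.spMap (Bialgebra.counitAlgHom k B) : sp k k ⟶ sp k B) = 1 := by
    rw [GrpSchLib.AffineHopf.spMap_eq_mapMulEquiv, ← map_one (Spec.mapMulEquiv (R := CommRingCat.of k))]
    exact congrArg _ (AlgHom.convOne_def.trans (congrArg _ (AlgHom.ext fun _ => rfl))).symm
  have hji : j ≫ spMap (φ : B →ₐ[k] A) = 1 := by
    rw [Category.assoc, hker.w, ← Category.assoc, toUnit_unique (_ ≫ toUnit N) (toUnit _)]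
    rfl
  have hgCφ : (gC : A →ₐ[k] C).comp (φ : B →ₐ[k] A) = (Algebra.ofId k C).comp (Bialgebra.counitAlgHom k B) := by
    refine GrpSchLib.AffineHopf.spMap_injective ?_
    rw [← GrpSchLib.AffineHopf.spMap_comp, ← hgC, hji, GrpSchLib.AffineHopf.spMap_eq_mapMulEquiv,
      ← map_one (Spec.mapMulEquiv (R := CommRingCat.of k))]
    exact congrArg _ AlgHom.convOne_def
  haveI : Module.Finite k C := finite_of_subsingleton_points K fun y y' => by
    have h : y.comp (gC : A →ₐ[k] C) = y'.comp (gC : A →ₐ[k] C) := hpts.1 (by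
      show (y.comp _).comp _ = (y'.comp _).comp _
      rw [AlgHom.comp_assoc, AlgHom.comp_assoc, hgCφ]
      ext b
      simp)
    refine GrpSchLib.AffineHopf.spMap_injective ((cancel_mono j).1 ?_)
    rw [hgC, GrpSchLib.AffineHopf.spMap_comp, GrpSchLib.AffineHopf.spMap_comp, h]
  haveI := isFinite_sp (k := k) C
  haveI : IsMonHom (1 : sp k C ⟶ sp k A) := inferInstanceAs (IsMonHom (toUnit _ ≫ MonObj.one))
  have hj : j = 1 := hinj (sp k C) j 1 (by rw [hji, MonObj.one_comp])
  haveI : Mono (spMap (φ : B →ₐ[k] A)) := ⟨fun {T} a b hab => by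
    have h1 : (a * b⁻¹) ≫ spMap (φ : B →ₐ[k] A) = 1 := by
      rw [MonObj.mul_comp, GrpObj.inv_comp, hab, mul_inv_cancel]
    obtain ⟨n, hn⟩ : ∃ n : T ⟶ N, n ≫ i = a * b⁻¹ :=
      ⟨hker.lift (a * b⁻¹) (toUnit _) h1, hker.lift_fst _ _ _⟩
    have hi1 : i = 1 := by
      rw [← cancel_epi eC.hom.hom.hom]
      exact hj.trans (MonObj.comp_one _).symm
    rw [hi1, MonObj.comp_one] at hn
    exact mul_inv_eq_one.1 hn.symm⟩
  haveI : QuasiCompact (spMap (φ : B →ₐ[k] A)).left := inferInstanceAs (QuasiCompact (Spec.map _))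
  have hφsurj : Function.Surjective (φ : B →ₐ[k] A) :=
    GrpSchLib.AffineHopf.surjective_of_isClosedImmersion _ (S3036.result k (sp k A) (sp k B) _)
  suffices hk : RingHom.ker (φ : B →ₐ[k] A) = ⊥ from
    ⟨(RingHom.injective_iff_ker_eq_bot (φ : B →ₐ[k] A)).2 hk, hφsurj⟩
  rcases CharP.char_is_prime_or_zero k (ringChar k) with hp | hp
  · haveI : Fact (ringChar k).Prime := ⟨hp⟩
    refine ker_eq_bot K φ (fun y => hpts.2 y) fun q => ?_
    haveI := isHopfIdeal_frobIdeal (k := k) (B := B) (ringChar k) q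
    haveI := finite_quotient_frobIdeal (k := k) (B := B) (ringChar k) q
    set J := frobIdeal (k := k) (B := B) (ringChar k ^ q)
    haveI := isFinite_sp (k := k) (B ⧸ J)
    let h : sp k (B ⧸ J) ⟶ sp k B := spMap (Ideal.Quotient.mkₐ k J)
    haveI : IsMonHom h := GrpSchLib.AffineHopf.isMonHom_spMap (R := k) (A := B ⧸ J) (B := B) (Bialgebra.Quotient.mkBialgHom (R := k) J)
    haveI : Mono h := by
      haveI : IsClosedImmersion h.left :=
        IsClosedImmersion.spec_of_surjective (CommRingCat.ofHom (Ideal.Quotient.mkₐ k J).toRingHom)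
          Ideal.Quotient.mk_surjective
      exact (Over.forget _).mono_of_mono_map (inferInstanceAs (Mono h.left))
    haveI : IsCommMonObj (sp k (B ⧸ J)) := isCommMonObj_of_mono h
    obtain ⟨f, -, hf⟩ := hsurj (sp k (B ⧸ J)) h
    obtain ⟨g, rfl⟩ := GrpSchLib.AffineHopf.exists_eq_spMap f
    rw [GrpSchLib.AffineHopf.spMap_comp] at hf
    have e := GrpSchLib.AffineHopf.spMap_injective hf
    intro b hb
    refine Ideal.pow_le_pow_right (Nat.lt_pow_self hp.one_lt).le (frobIdeal_le_pow _ ?_)
    rw [← Ideal.Quotient.eq_zero_iff_mem]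
    show Ideal.Quotient.mkₐ k J b = 0
    rw [← e, AlgHom.comp_apply, show (φ : B →ₐ[k] A) b = 0 from hb, map_zero]
  · haveI : CharZero k := (CharP.ringChar_zero_iff_CharZero k).1 hp
    haveI : AlgebraicGeometry.IsReduced (Spec (CommRingCat.of B)) :=
      @GrpSchLib.isReduced_of_smooth_field k _ _ (sp k B).hom (GrpSchLib.smooth_of_charZero (sp k B))
    haveI : _root_.IsReduced B := (affine_isReduced_iff (CommRingCat.of B)).1 ‹_›
    refine (Submodule.eq_bot_iff _).2 fun b hb => IsNilpotent.eq_zero ?_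
    refine isNilpotent_of_forall_point (k := k) K b fun y => ?_
    obtain ⟨y', rfl⟩ := hpts.2 y
    show y' ((φ : B →ₐ[k] A) b) = 0
    rw [show (φ : B →ₐ[k] A) b = 0 from hb, map_zero]

end Groth.Agent.PointFrob
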